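import Groth.Agent.AlgGrpLib.GroupLikeFG
import Groth.Agent.TorusGal29.Bridge
import Groth.Agent.SGA3cLib.DiagPoints
import Groth.Agent.SGA3cLib.BCPoints
import Groth.Prelude

/-!
# Characters of affine algebraic groups over a field form a finitely generated group
-/

set_option autoImplicit false
set_option linter.style.haveILetI false
set_option linter.unusedSectionVars false
set_option backward.isDefEq.respectTransparency.types false
set_option maxHeartbeats 1000000

universe u

open CategoryTheory CategoryTheory.Limits MonoidalCategory CartesianMonoidalCategory MonObj AlgebraicGeometry Opposite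
open scoped TensorProduct
open CoactBr

namespace Groth.Agent.CharFG27

variable {k : Type u} [Field k]

section Hopf

variable {A : Type u} [CommRing A] [HopfAlgebra k A] {G : Over (Spec (CommRingCat.of k))} [GrpObj G]
  (i : sp k A ≅ G) [IsMonHom i.hom]

/-- Value of a character at a point of `Spec A`. -/
noncomputable def val {K : Type u} [CommRing K] [Algebra k K] (t : sp k K ⟶ Red.Gm (Spec (CommRingCat.of k))) : K :=
  (Scheme.ΓSpecIso (CommRingCat.of K)).hom (Red.gmFn t)

theorem val_injective {K : Type u} [CommRing K] [Algebra k K]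
    {s t : sp k K ⟶ Red.Gm (Spec (CommRingCat.of k))} (h : val s = val t) : s = t :=
  SGA3cLib.gmFn_injective ((Scheme.ΓSpecIso (CommRingCat.of K)).commRingCatIsoToRingEquiv.injective h)

theorem val_mul {K : Type u} [CommRing K] [Algebra k K]
    (s t : sp k K ⟶ Red.Gm (Spec (CommRingCat.of k))) : val (s * t) = val s * val t := by
  exact (congrArg _ (SGA3cLib.gmFn_mul s t)).trans (map_mul (Scheme.ΓSpecIso (CommRingCat.of K)).hom.hom _ _)

theorem val_one {K : Type u} [CommRing K] [Algebra k K] :
    val (1 : sp k K ⟶ Red.Gm (Spec (CommRingCat.of k))) = 1 := by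
  exact (congrArg _ SGA3cLib.gmFn_one).trans (map_one (Scheme.ΓSpecIso (CommRingCat.of K)).hom.hom)

theorem val_pt_comp {K L : Type u} [CommRing K] [Algebra k K] [CommRing L] [Algebra k L] (φ : K →ₐ[k] L)
    (t : sp k K ⟶ Red.Gm (Spec (CommRingCat.of k))) : val (pt φ ≫ t) = φ (val t) := by
  have h := ConcreteCategory.congr_hom (Scheme.ΓSpecIso_naturality (CommRingCat.ofHom φ.toRingHom)) (Red.gmFn t)
  rw [val, SGA3cLib.gmFn_comp]
  exact h

include i in
theorem isGroupLike_val (u : G ⟶ Red.Gm (Spec (CommRingCat.of k))) [IsMonHom u] :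
    IsGroupLikeElem k (val (i.hom ≫ u)) where
  counit_eq_one := by
    have h := val_pt_comp ((Algebra.ofId k k).comp (Bialgebra.counitAlgHom k A)) (i.hom ≫ u)
    rw [← CoactBr.one_eq_pt, MonObj.one_comp, val_one] at h
    exact h.symm
  comul_eq_tmul_self := by
    have h := val_pt_comp (Bialgebra.comulAlgHom k A) (i.hom ≫ u)
    rw [← HopfLib.SpPoints.pt_includeLeft_mul_includeRight, MonObj.mul_comp, val_mul, val_pt_comp, val_pt_comp] at h
    refine h.symm.trans ?_
    show (val (i.hom ≫ u) ⊗ₜ[k] (1 : A)) * ((1 : A) ⊗ₜ[k] val (i.hom ≫ u)) = _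
    rw [Algebra.TensorProduct.tmul_mul_tmul, _root_.mul_one, _root_.one_mul]

end Hopf

variable (G : Over (Spec (CommRingCat.of k))) [GrpObj G] [IsCommMonObj G]

/-- The morphism underlying a homomorphism of sheaves. -/
noncomputable def toHom (φ : CGrpSh.pts Scheme.fppfPrecoverage G ⟶
    CGrpSh2.Gm Scheme.fppfPrecoverage (Spec (CommRingCat.of k))) : G ⟶ Red.Gm (Spec (CommRingCat.of k)) :=
  (φ.hom.app (op G) (ULift.up (Additive.ofMul (𝟙 G)))).down.toMul

variable {G}

theorem app_eq (φ : CGrpSh.pts Scheme.fppfPrecoverage G ⟶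
    CGrpSh2.Gm Scheme.fppfPrecoverage (Spec (CommRingCat.of k))) (T : Over (Spec (CommRingCat.of k))) (x : T ⟶ G) :
    (φ.hom.app (op T) (ULift.up (Additive.ofMul x))).down.toMul = x ≫ toHom G φ := by
  have h := congrArg (fun z => (ULift.down z).toMul)
    (ConcreteCategory.congr_hom (φ.hom.naturality x.op) (ULift.up (Additive.ofMul (𝟙 G))))
  refine Eq.trans ?_ h
  show (φ.hom.app (op T) (ULift.up (Additive.ofMul x))).down.toMul =
    (φ.hom.app (op T) (ULift.up (Additive.ofMul (x ≫ 𝟙 G)))).down.toMul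
  rw [Category.comp_id]

theorem toHom_mul_comp (φ : CGrpSh.pts Scheme.fppfPrecoverage G ⟶
    CGrpSh2.Gm Scheme.fppfPrecoverage (Spec (CommRingCat.of k))) {T : Over (Spec (CommRingCat.of k))} (x y : T ⟶ G) :
    (x * y) ≫ toHom G φ = (x ≫ toHom G φ) * (y ≫ toHom G φ) := by
  rw [← app_eq, ← app_eq, ← app_eq]
  exact congrArg (fun z => (ULift.down z).toMul)
    (map_add (φ.hom.app (op T)).hom (ULift.up (Additive.ofMul x)) (ULift.up (Additive.ofMul y)))

theorem isMonHom_toHom (φ : CGrpSh.pts Scheme.fppfPrecoverage G ⟶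
    CGrpSh2.Gm Scheme.fppfPrecoverage (Spec (CommRingCat.of k))) : IsMonHom (toHom G φ) :=
  SGA3cLib.BCPoints.isMonHom_of_mul (toHom G φ) fun T x y => by exact toHom_mul_comp φ x y

theorem toHom_injective : Function.Injective (toHom G) := by
  intro φ ψ h
  refine Sheaf.hom_ext (NatTrans.ext (funext fun T => AddCommGrpCat.ext fun x => ?_))
  obtain ⟨T⟩ := T
  obtain ⟨x⟩ := x
  refine ULift.ext _ _ ?_
  have h1 := app_eq φ T x.toMul
  have h2 := app_eq ψ T x.toMul
  rw [h] at h1
  exact congrArg Additive.ofMul (h1.trans h2.symm)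

theorem toHom_add (φ ψ : CGrpSh.pts Scheme.fppfPrecoverage G ⟶
    CGrpSh2.Gm Scheme.fppfPrecoverage (Spec (CommRingCat.of k))) : toHom G (φ + ψ) = toHom G φ * toHom G ψ :=
  rfl

/-- The characters of an affine group scheme of finite type over a field form a finitely generated group. -/
theorem fg_characters [IsAffine G.left] [LocallyOfFiniteType G.hom] :
    AddGroup.FG (CGrpSh.pts Scheme.fppfPrecoverage G ⟶
      CGrpSh2.Gm Scheme.fppfPrecoverage (Spec (CommRingCat.of k))) := by
  obtain ⟨A, _, _, i, hi⟩ := TorusGal29.exists_hopf G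
  haveI : IsMonHom i.hom := hi
  haveI : LocallyOfFiniteType (sp k A).hom := by
    have e : i.hom.left ≫ G.hom = (sp k A).hom := Over.w i.hom
    rw [← e]
    haveI : IsIso i.hom.left := ((Over.forget _).mapIso i).isIso_hom
    infer_instance
  haveI : Algebra.FiniteType k A :=
    RingHom.finiteType_algebraMap.1 ((HasRingHomProperty.Spec_iff (P := @LocallyOfFiniteType)).1 ‹LocallyOfFiniteType (sp k A).hom›)
  haveI : IsNoetherianRing A := Algebra.FiniteType.isNoetherianRing k A
  let f : (CGrpSh.pts Scheme.fppfPrecoverage G ⟶ CGrpSh2.Gm Scheme.fppfPrecoverage (Spec (CommRingCat.of k))) →+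
      Additive (GroupLike k A) := AddMonoidHom.mk'
    (fun φ => haveI := isMonHom_toHom φ; Additive.ofMul ⟨val (i.hom ≫ toHom G φ), isGroupLike_val i (toHom G φ)⟩)
    (fun φ ψ => congrArg Additive.ofMul (GroupLike.val_injective (by
      show val (i.hom ≫ toHom G (φ + ψ)) = val (i.hom ≫ toHom G φ) * val (i.hom ≫ toHom G ψ)
      rw [toHom_add, MonObj.comp_mul, val_mul])))
  have hf : Function.Injective f := fun φ ψ h =>
    toHom_injective ((cancel_epi i.hom).1 (val_injective (congrArg (fun z => (Additive.toMul z).val) h)))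
  haveI : Group.FG (GroupLike k A) := AlgGrpLib.GroupLikeFG.fg_groupLike A
  haveI : Module.Finite ℤ (Additive (GroupLike k A)) := Module.Finite.iff_addGroup_fg.2 inferInstance
  exact Module.Finite.iff_addGroup_fg.1 (Module.Finite.of_injective f.toIntLinearMap hf)

end Groth.Agent.CharFG27
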